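import Cfsg.Agent.Lib.Helper3.S6b.L1D
import Cfsg.Agent.Lib.Helper3.S6b.Net

set_option autoImplicit false
set_option maxRecDepth 100000

namespace Cfsg.Agent.Lib.Helper3.S6b.L1

open Cfsg.Agent.Lib.Helper11 Cfsg.Agent.Lib.Helper3

set_option maxHeartbeats 0
set_option Elab.async false

noncomputable def fc (i : ℕ) : ℕ := (fc0_0 i)
noncomputable def sc (i : ℕ) : ℕ := (sc0_0 i)
noncomputable def nc (i : ℕ) : ℕ := (nc0_0 i)
noncomputable def cc (i : ℕ) : ℕ := (cc0_0 i)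

def isH (l : ℕ) : Bool := decide (l ∈ [5, 7])
def gens : List ℕ := [1, 2]
def hl : List ℕ := [5, 7]
def dl : List (List ℕ × ℕ) := [([1], 3), ([2], 4), ([2, 3], 6), ([6], 5), ([3, 2, 1, 1], 8), ([8], 7), ([5], 10), ([10], 9), ([7, 7, 7], 11), ([10, 11], 13), ([13], 12), ([9, 11, 10], 14), ([14], 15)]
def BR_0 : List (List ℕ) := [[], [2, 3, 6], [3, 2, 1, 1, 8], [5, 10], [7, 7, 7, 11], [10, 11, 13], [1, 1, 1, 1], [4, 4, 4, 4], [1, 4, 1, 4, 1, 4, 1, 4], [1, 1, 2, 1, 1, 2, 1, 1, 2, 1, 1, 2], [4, 1, 2, 12, 9, 8, 5]]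
def BR : List (List ℕ) := BR_0
set_option maxRecDepth 10000000 in
noncomputable def rt : RT := (.node 5 (.node 2 (.node 1 (.leaf 0 0 []) (.leaf 6 2 [1, 1, 1, 1])) (.node 3 (.leaf 1 0 [2, 3, 6]) (.node 4 (.leaf 2 1 [2, 1, 1, 8, 3]) (.leaf 7 1 [4, 4, 4, 4])))) (.node 8 (.node 6 (.leaf 3 1 [10, 5]) (.node 7 (.leaf 4 3 [11, 7, 7, 7]) (.leaf 5 2 [13, 10, 11]))) (.node 9 (.leaf 10 1 [1, 2, 12, 9, 8, 5, 4]) (.node 10 (.leaf 8 2 [1, 4, 1, 4, 1, 4, 1, 4]) (.leaf 9 5 [2, 1, 1, 2, 1, 1, 2, 1, 1, 2, 1, 1])))))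

theorem b0 : allR (guardB 1 (blk fc sc rt.get Cfsg.Agent.Lib.Helper3.S6b.INV isH)) 1 0 = true := by decide +kernel
theorem c0 : allR (guardB 1 (cblk fc nc cc 256 6 79228162514264337593543950336 gens)) 1 0 = true := by decide +kernel

theorem chkAll : ∀ j < 1, blk fc sc rt.get Cfsg.Agent.Lib.Helper3.S6b.INV isH j = true :=
  guardB_spec (D := 1) b0 (by norm_num)

theorem clAll : ∀ jb < 1, cblk fc nc cc (256 * 1) 6 79228162514264337593543950336 gens jb = true :=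
  guardB_spec (D := 1) c0 (by norm_num)

theorem hid_0 : BR_0.all (wordId (ntOf Cfsg.Agent.Lib.Helper3.S6b.ntl) 3) = true := by decide +kernel
theorem hid : BR.all (wordId (ntOf Cfsg.Agent.Lib.Helper3.S6b.ntl) 3) = true := by
  simp only [BR, List.all_append, hid_0, Bool.and_self]

theorem card_eq : Nat.card (lgrp (vL Cfsg.Agent.Lib.Helper3.S6b.ntl Cfsg.Agent.Lib.Helper3.S6b.deg) gens) = 6 * Nat.card (lgrp (vL Cfsg.Agent.Lib.Helper3.S6b.ntl Cfsg.Agent.Lib.Helper3.S6b.deg) hl) :=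
  Cfsg.Agent.Lib.Helper3.S6b.setup.level gens hl dl BR (by decide +kernel) (by decide +kernel) hid (by decide +kernel)
    (by decide +kernel) rt (by decide +kernel) isH (fun l h => of_decide_eq_true h) fc sc nc cc 1 1 6 79228162514264337593543950336
    (by norm_num) (by norm_num) (by decide +kernel) (by decide) chkAll clAll
    0 0 2 (by norm_num [Cfsg.Agent.Lib.Helper3.S6b.deg]) (by norm_num [Cfsg.Agent.Lib.Helper3.S6b.deg]) (by decide +kernel) (by decide +kernel)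

theorem ub {M : Type*} [Group M] (w : ℕ → M) (h0 : w 0 = 1) (hinv : ∀ l, w (invL Cfsg.Agent.Lib.Helper3.S6b.INV l) = (w l)⁻¹)
    (hBR : ∀ r ∈ BR, (r.map w).prod = 1)
    (hdlr : ∀ r ∈ dl.map (fun p => p.1 ++ [p.2]), (r.map w).prod = 1) (N : ℕ) (hN : Bd w hl N) :
    Bd w gens (6 * N) :=
  level_bd w Cfsg.Agent.Lib.Helper3.S6b.INV h0 hinv gens hl dl BR (by decide +kernel) hdlr hBR (by decide +kernel) (by decide +kernel)
    rt (by decide +kernel) isH (fun l h => of_decide_eq_true h) fc sc nc cc 1 1 6 79228162514264337593543950336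
    (by norm_num) (by norm_num) (by decide +kernel) (by decide) chkAll clAll N hN

end Cfsg.Agent.Lib.Helper3.S6b.L1
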