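import Mathlib

set_option autoImplicit false
set_option maxRecDepth 100000

namespace Cfsg.Agent.Lib.Helper3.S6b.L1

noncomputable def fc0_0 (i : ℕ) : ℕ := (nat_lit 0x40000440000020000820000050000a30000050000a100000300006300000300006100000000000c00000000000d00000000000b00000000000b00000000000900000000000a0000030000a20000050000640000020000840000040000420000000000240000010000020000040000430000020000810000000000080000000000070000000000060000000000050000010000a4000005000022000001000083000004000021000000000062000003000004000000000041000002000003000000000023000001000001)
noncomputable def sc0_0 (i : ℕ) : ℕ := (nat_lit 0x1900001f00001a00000300000300000a00000100000100001700001f00001c000b000a00000900000100001900001a00000a0000170000140007000900001700001100000e000004000000000016000600080000010000030002000700000b00000b00000b0003000600000b0001000500000f00000200000a0003000400000f00000400000e0000030004000300000400000e0002000200000700000d00000a000300010000fffe0000fffe0000ffff0000ffff0000ffff0000ffff0000ffff)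
noncomputable def nc0_0 (i : ℕ) : ℕ := (nat_lit 0x5000004000003000002000001000000)
noncomputable def cc0_0 (i : ℕ) : ℕ := (nat_lit 0x100000800000500001e00000200001200000100000600000500001500000300001c00000400002000000400000e000000000010000000000000000003000005000002000003)

end Cfsg.Agent.Lib.Helper3.S6b.L1
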